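import Mathlib.RingTheory.TensorProduct.Maps
import Mathlib.SetTheory.Cardinal.Finite
import Mathlib.Algebra.GroupWithZero.Action.Defs
import Mathlib.GroupTheory.Perm.Basic

/-!
# Invariants of a tensor product when the group orders are invertible
-/

set_option autoImplicit false

universe u

open scoped TensorProduct

noncomputable section

namespace Groth.Misc10.SymZeta

/-- An algebra map whose range is the invariants splits when the order of the group is a unit. -/
theorem exists_retraction {G R A A₀ : Type u} [Group G] [Fintype G] [CommRing R] [CommRing A]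
    [CommRing A₀] [Algebra R A] [Algebra R A₀] [MulSemiringAction G A] [SMulCommClass G R A]
    (hG : IsUnit (Fintype.card G : R)) (ι : A₀ →ₐ[R] A) (hι : Function.Injective ι)
    (hr : ∀ a, a ∈ Set.range ι ↔ ∀ g : G, g • a = a) :
    ∃ r : A →ₗ[R] A₀, (∀ a₀, r (ι a₀) = a₀) ∧
      ∀ a, ι (r a) = ((hG.unit⁻¹ : Rˣ) : R) • ∑ g : G, g • a := by
  let avg : A →ₗ[R] A := ((hG.unit⁻¹ : Rˣ) : R) • ∑ g : G, DistribSMul.toLinearMap R A g
  have happ : ∀ a, avg a = ((hG.unit⁻¹ : Rˣ) : R) • ∑ g : G, g • a := fun a => by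
    simp [avg]
  have hmem : ∀ a, avg a ∈ LinearMap.range ι.toLinearMap := fun a => by
    refine (hr _).2 fun g => ?_
    rw [happ, smul_comm g, Finset.smul_sum]
    congr 1
    exact Fintype.sum_equiv (Equiv.mulLeft g) _ _ fun x => (mul_smul g x a).symm
  let r : A →ₗ[R] A₀ :=
    (LinearEquiv.ofInjective ι.toLinearMap hι).symm.toLinearMap ∘ₗ
      avg.codRestrict (LinearMap.range ι.toLinearMap) hmem
  have hιr : ∀ a, ι (r a) = avg a := fun a =>
    congrArg Subtype.val ((LinearEquiv.ofInjective ι.toLinearMap hι).apply_symm_apply ⟨_, hmem a⟩)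
  refine ⟨r, fun a₀ => hι ?_, fun a => (hιr a).trans (happ a)⟩
  rw [hιr, happ, Finset.sum_congr rfl fun g _ => (hr (ι a₀)).1 ⟨a₀, rfl⟩ g, Finset.sum_const,
    Finset.card_univ, ← Nat.cast_smul_eq_nsmul R, smul_smul, IsUnit.val_inv_mul, one_smul]

variable {G H R A B A₀ B₀ : Type u} [Group G] [Finite G] [Group H] [Finite H] [CommRing R]
  [CommRing A] [CommRing B] [CommRing A₀] [CommRing B₀] [Algebra R A] [Algebra R B] [Algebra R A₀]
  [Algebra R B₀] [MulSemiringAction G A] [SMulCommClass G R A] [MulSemiringAction H B]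
  [SMulCommClass H R B]

/-- Invariants of a tensor product of algebras for the product group, the orders being units. -/
theorem tensor_invariants (hG : IsUnit (Nat.card G : R)) (hH : IsUnit (Nat.card H : R))
    (ι : A₀ →ₐ[R] A) (hι : Function.Injective ι) (hr : ∀ a, a ∈ Set.range ι ↔ ∀ g : G, g • a = a)
    (κ : B₀ →ₐ[R] B) (hκ : Function.Injective κ) (hs : ∀ b, b ∈ Set.range κ ↔ ∀ h : H, h • b = b) :
    Function.Injective (Algebra.TensorProduct.map ι κ) ∧
      ∀ x : A ⊗[R] B, x ∈ Set.range (Algebra.TensorProduct.map ι κ) ↔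
        ∀ (g : G) (h : H), TensorProduct.map (DistribSMul.toLinearMap R A g)
          (DistribSMul.toLinearMap R B h) x = x := by
  cases nonempty_fintype G
  cases nonempty_fintype H
  rw [Nat.card_eq_fintype_card] at hG hH
  obtain ⟨r, hr₁, hr₂⟩ := exists_retraction hG ι hι hr
  obtain ⟨s, hs₁, hs₂⟩ := exists_retraction hH κ hκ hs
  let M := Algebra.TensorProduct.map ι κ
  have hleft : ∀ y, TensorProduct.map r s (M y) = y := fun y => by
    induction y with
    | zero => simp
    | tmul a b => simp [M, hr₁, hs₁]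
    | add a b ha hb => rw [map_add, map_add, ha, hb]
  refine ⟨Function.LeftInverse.injective hleft, fun x => ⟨?_, fun hx => ?_⟩⟩
  · rintro ⟨y, rfl⟩ g h
    induction y with
    | zero => simp
    | tmul a b => simp [(hr (ι a)).1 ⟨a, rfl⟩ g, (hs (κ b)).1 ⟨b, rfl⟩ h]
    | add a b ha hb => rw [map_add, map_add, ha, hb]
  · refine ⟨TensorProduct.map r s x, ?_⟩
    set u := ((hG.unit⁻¹ : Rˣ) : R)
    set v := ((hH.unit⁻¹ : Rˣ) : R)
    have key : ∀ z : A ⊗[R] B, M (TensorProduct.map r s z) = (u * v) • ∑ g : G, ∑ h : H,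
        TensorProduct.map (DistribSMul.toLinearMap R A g) (DistribSMul.toLinearMap R B h) z := by
      intro z
      induction z with
      | zero => simp
      | tmul a b =>
        simp only [TensorProduct.map_tmul, M, Algebra.TensorProduct.map_tmul, hr₂, hs₂,
          DistribSMul.toLinearMap_apply, TensorProduct.smul_tmul_smul, TensorProduct.sum_tmul,
          TensorProduct.tmul_sum]
        rw [Finset.sum_comm]
      | add a b ha hb =>
        simp only [map_add, ha, hb, Finset.sum_add_distrib, smul_add]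
    refine (key x).trans ?_
    simp only [hx, Finset.sum_const, Finset.card_univ]
    rw [← Nat.cast_smul_eq_nsmul R, ← Nat.cast_smul_eq_nsmul R, smul_smul, smul_smul]
    rw [show u * v * (Fintype.card G : R) * (Fintype.card H : R) = 1 by
      rw [mul_assoc (u * v), mul_mul_mul_comm, IsUnit.val_inv_mul hG, IsUnit.val_inv_mul hH, one_mul], one_smul]

end Groth.Misc10.SymZeta
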