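import Groth.Agent.Pi1Quot.Local
import Groth.Agent.Misc5Sym.BaseChangeSquare
import Groth.Agent.Misc10.SymZeta.Reynolds
import Mathlib.CategoryTheory.MorphismProperty.Limits

/-!
# Fibre products of quotients
-/

set_option autoImplicit false
set_option backward.isDefEq.respectTransparency false

universe u

open CategoryTheory CategoryTheory.Limits AlgebraicGeometry
open scoped TensorProduct

set_option linter.style.haveILetI false

noncomputable section

namespace Groth.Misc10.SymZeta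

/-- Boxes of affine opens over an affine open are affine. -/
theorem isAffineOpen_pullback_inf {X Y Z : Scheme.{u}} {f : X ⟶ Z} {g : Y ⟶ Z} {U : X.Opens}
    (hU : IsAffineOpen U) {V : Y.Opens} (hV : IsAffineOpen V) {W : Z.Opens} (hW : IsAffineOpen W)
    (hUW : U ≤ f ⁻¹ᵁ W) (hVW : V ≤ g ⁻¹ᵁ W) :
    IsAffineOpen (pullback.fst f g ⁻¹ᵁ U ⊓ pullback.snd f g ⁻¹ᵁ V) := by
  have : IsAffine U.toScheme := hU
  have : IsAffine V.toScheme := hV
  have : IsAffine W.toScheme := hW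
  let p : pullback (f.resLE W U hUW) (g.resLE W V hVW) ⟶ pullback f g :=
    pullback.map _ _ _ _ U.ι V.ι W.ι (by simp) (by simp)
  have hp : p.opensRange = pullback.fst f g ⁻¹ᵁ U ⊓ pullback.snd f g ⁻¹ᵁ V := by
    ext1
    simp [p, Scheme.Pullback.range_map]
  exact hp ▸ isAffineOpen_opensRange p

variable {P P' S S' Y : Scheme.{u}} {G G' : Type u} [Group G] [Group G'] (ρ : G →* Aut P)
  (ρ' : G' →* Aut P') (q : P ⟶ S) (q' : P' ⟶ S') (b : S ⟶ Y) (b' : S' ⟶ Y)
  (hq : ∀ g : G, (ρ g).hom ≫ q = q) (hq' : ∀ g : G', (ρ' g).hom ≫ q' = q')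

/-- The product action on a fibre product. -/
def prodHom (x : G × G') : pullback (q ≫ b) (q' ≫ b') ⟶ pullback (q ≫ b) (q' ≫ b') :=
  pullback.map _ _ _ _ (ρ x.1).hom (ρ' x.2).hom (𝟙 Y)
    (by rw [Category.comp_id, ← Category.assoc, hq])
    (by rw [Category.comp_id, ← Category.assoc, hq'])

@[reassoc (attr := simp)]
theorem prodHom_fst (x : G × G') :
    prodHom ρ ρ' q q' b b' hq hq' x ≫ pullback.fst _ _ = pullback.fst _ _ ≫ (ρ x.1).hom :=
  pullback.lift_fst _ _ _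

@[reassoc (attr := simp)]
theorem prodHom_snd (x : G × G') :
    prodHom ρ ρ' q q' b b' hq hq' x ≫ pullback.snd _ _ = pullback.snd _ _ ≫ (ρ' x.2).hom :=
  pullback.lift_snd _ _ _

theorem prodHom_mul (x y : G × G') : prodHom ρ ρ' q q' b b' hq hq' (x * y) =
    prodHom ρ ρ' q q' b b' hq hq' y ≫ prodHom ρ ρ' q q' b b' hq hq' x := by
  apply pullback.hom_ext
  · rw [prodHom_fst, Category.assoc, prodHom_fst, prodHom_fst_assoc, Prod.fst_mul, map_mul,
      Aut.Aut_mul_def, Iso.trans_hom]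
  · rw [prodHom_snd, Category.assoc, prodHom_snd, prodHom_snd_assoc, Prod.snd_mul, map_mul,
      Aut.Aut_mul_def, Iso.trans_hom]

theorem prodHom_one : prodHom ρ ρ' q q' b b' hq hq' 1 = 𝟙 _ := by
  apply pullback.hom_ext
  · rw [prodHom_fst, Prod.fst_one, map_one, Category.id_comp]
    exact Category.comp_id _
  · rw [prodHom_snd, Prod.snd_one, map_one, Category.id_comp]
    exact Category.comp_id _

/-- The product action. -/
def prodAct : G × G' →* Aut (pullback (q ≫ b) (q' ≫ b')) where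
  toFun x :=
    { hom := prodHom ρ ρ' q q' b b' hq hq' x
      inv := prodHom ρ ρ' q q' b b' hq hq' x⁻¹
      hom_inv_id := by rw [← prodHom_mul, inv_mul_cancel, prodHom_one]
      inv_hom_id := by rw [← prodHom_mul, mul_inv_cancel, prodHom_one] }
  map_one' := Iso.ext (prodHom_one ρ ρ' q q' b b' hq hq')
  map_mul' x y := Iso.ext (by
    rw [Aut.Aut_mul_def, Iso.trans_hom]
    exact prodHom_mul ρ ρ' q q' b b' hq hq' x y)

theorem prodAct_hom (x : G × G') :
    (prodAct ρ ρ' q q' b b' hq hq' x).hom = prodHom ρ ρ' q q' b b' hq hq' x := rfl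

/-- The product map to the fibre product of the quotients. -/
abbrev prodMap : pullback (q ≫ b) (q' ≫ b') ⟶ pullback b b' :=
  pullback.map _ _ b b' q q' (𝟙 Y) (Category.comp_id _) (Category.comp_id _)

/-- A fibre product of quotients by finite groups of invertible orders is a quotient. -/
theorem isQuot_prodMap [Finite G] [Finite G'] (hp : SGA1.IsQuot ρ q) (hp' : SGA1.IsQuot ρ' q')
    (hn : ∀ V : Y.Opens, IsUnit (Nat.card G : Γ(Y, V)) ∧ IsUnit (Nat.card G' : Γ(Y, V))) :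
    SGA1.IsQuot (prodAct ρ ρ' q q' b b' hp.inv hp'.inv) (prodMap q q' b b') := by
  have := hp.affine
  have := hp'.affine
  let r := prodMap q q' b b'
  let τ := prodAct ρ ρ' q q' b b' hp.inv hp'.inv
  have hinv : ∀ x, (τ x).hom ≫ r = r := fun x => by
    apply pullback.hom_ext <;>
      simp [r, τ, prodMap, prodAct_hom, hp.inv, hp'.inv]
  have : IsAffineHom r :=
    MorphismProperty.pullbackMap (P := @IsAffineHom) hp.affine hp'.affine rfl rfl
  refine Groth.Pi1Quot.isQuot_of_local hinv fun z => ?_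
  obtain ⟨V, hV, hzV, -⟩ := exists_isAffineOpen_mem_and_subset
    (X := Y) (x := b (pullback.fst b b' z)) (U := ⊤) trivial
  obtain ⟨U, hU, hzU, hUV⟩ := exists_isAffineOpen_mem_and_subset
    (X := S) (x := pullback.fst b b' z) (U := b ⁻¹ᵁ V) hzV
  have hzV' : b' (pullback.snd b b' z) ∈ V := by
    rw [← Scheme.Hom.comp_apply, ← pullback.condition, Scheme.Hom.comp_apply]
    exact hzV
  obtain ⟨U', hU', hzU', hUV'⟩ := exists_isAffineOpen_mem_and_subset
    (X := S') (x := pullback.snd b b' z) (U := b' ⁻¹ᵁ V) hzV'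
  let W := pullback.fst b b' ⁻¹ᵁ U ⊓ pullback.snd b b' ⁻¹ᵁ U'
  have hW : IsAffineOpen W :=
    isAffineOpen_pullback_inf hU hU' hV hUV hUV'
  refine ⟨W, hW, ⟨hzU, hzU'⟩, ?_⟩
  -- the algebras
  let O := q ⁻¹ᵁ U
  let O' := q' ⁻¹ᵁ U'
  have hOV : O ≤ (q ≫ b) ⁻¹ᵁ V := fun x hx => hUV hx
  have hOV' : O' ≤ (q' ≫ b') ⁻¹ᵁ V := fun x hx => hUV' hx
  letI : Algebra Γ(Y, V) Γ(P, O) := ((q ≫ b).appLE V O hOV).hom.toAlgebra
  letI : Algebra Γ(Y, V) Γ(P', O') := ((q' ≫ b').appLE V O' hOV').hom.toAlgebra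
  letI : Algebra Γ(Y, V) Γ(S, U) := (b.appLE V U hUV).hom.toAlgebra
  letI : Algebra Γ(Y, V) Γ(S', U') := (b'.appLE V U' hUV').hom.toAlgebra
  letI := Groth.Pi1Quot.action hp.inv U
  letI := Groth.Pi1Quot.action hp'.inv U'
  have hsm : ∀ {P S : Scheme.{u}} {G : Type u} [Group G] (ρ : G →* Aut P) (q : P ⟶ S) (b : S ⟶ Y)
      (h : ∀ g, (ρ g).hom ≫ q = q) (U : S.Opens) (hUV : U ≤ b ⁻¹ᵁ V) (e : q ⁻¹ᵁ U ≤ (q ≫ b) ⁻¹ᵁ V)
      (g : G) (c : Γ(Y, V)),
      Groth.Pi1Quot.sectionHom h U g ((q ≫ b).appLE V (q ⁻¹ᵁ U) e c) =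
        (q ≫ b).appLE V (q ⁻¹ᵁ U) e c := by
    intro P S G _ ρ q b h U hUV e g c
    have : (q ≫ b).appLE V (q ⁻¹ᵁ U) e = b.appLE V U hUV ≫ q.app U := by
      rw [← Scheme.Hom.appLE_eq_app, Scheme.Hom.appLE_comp_appLE]
    rw [this]
    exact Groth.Pi1Quot.sectionHom_app h U g _
  haveI : SMulCommClass G Γ(Y, V) Γ(P, O) := ⟨fun g c a => by
    rw [Algebra.smul_def, Algebra.smul_def, smul_mul']
    exact congrArg (· * g • a) (hsm ρ q b hp.inv U hUV hOV g c)⟩
  haveI : SMulCommClass G' Γ(Y, V) Γ(P', O') := ⟨fun g c a => by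
    rw [Algebra.smul_def, Algebra.smul_def, smul_mul']
    exact congrArg (· * g • a) (hsm ρ' q' b' hp'.inv U' hUV' hOV' g c)⟩
  let ι : Γ(S, U) →ₐ[Γ(Y, V)] Γ(P, O) :=
    { (q.app U).hom with
      commutes' := fun c => by
        show q.app U (b.appLE V U hUV c) = (q ≫ b).appLE V O hOV c
        rw [← Scheme.Hom.appLE_eq_app, ← CommRingCat.comp_apply, Scheme.Hom.appLE_comp_appLE] }
  let κ : Γ(S', U') →ₐ[Γ(Y, V)] Γ(P', O') :=
    { (q'.app U').hom with
      commutes' := fun c => by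
        show q'.app U' (b'.appLE V U' hUV' c) = (q' ≫ b').appLE V O' hOV' c
        rw [← Scheme.Hom.appLE_eq_app, ← CommRingCat.comp_apply, Scheme.Hom.appLE_comp_appLE] }
  have hι : ∀ a, a ∈ Set.range ι ↔ ∀ g : G, g • a = a := fun a =>
    (hp.range_iff U a).trans (Groth.Pi1Quot.forall_smul_iff hp.inv U a).symm
  have hκ : ∀ a, a ∈ Set.range κ ↔ ∀ g : G', g • a = a := fun a =>
    (hp'.range_iff U' a).trans (Groth.Pi1Quot.forall_smul_iff hp'.inv U' a).symm
  obtain ⟨hinj, hran⟩ := tensor_invariants (hn V).1 (hn V).2 ι (hp.injective U) hι κ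
    (hp'.injective U') hκ
  -- sections of the two fibre products
  have hrW : r ⁻¹ᵁ W = pullback.snd (q ≫ b) (q' ≫ b') ⁻¹ᵁ O' ⊓
      pullback.fst (q ≫ b) (q' ≫ b') ⁻¹ᵁ O := by
    show r ⁻¹ᵁ (_ ⊓ _) = _
    rw [Scheme.Hom.preimage_inf, ← Scheme.Hom.comp_preimage, ← Scheme.Hom.comp_preimage,
      pullback.lift_fst, pullback.lift_snd, Scheme.Hom.comp_preimage, Scheme.Hom.comp_preimage,
      inf_comm]
  have e₁ : r ⁻¹ᵁ W ≤ pullback.fst (q ≫ b) (q' ≫ b') ⁻¹ᵁ O := hrW.le.trans inf_le_right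
  have e₂ : r ⁻¹ᵁ W ≤ pullback.snd (q ≫ b) (q' ≫ b') ⁻¹ᵁ O' := hrW.le.trans inf_le_left
  obtain ⟨e, he⟩ := Groth.Misc5Sym.exists_sections_tensor
    (IsPullback.of_hasPullback (q ≫ b) (q' ≫ b')).flip hOV hOV' hV (hU.preimage q)
    (hU'.preimage q') hrW e₂ e₁
  obtain ⟨e₀, he₀⟩ := Groth.Misc5Sym.exists_sections_tensor
    (IsPullback.of_hasPullback b b').flip hUV hUV' hV hU hU'
    (inf_comm (pullback.fst b b' ⁻¹ᵁ U) (pullback.snd b b' ⁻¹ᵁ U')) inf_le_right inf_le_left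
  have hsq : ∀ x, r.app W (e₀ x) = e (Algebra.TensorProduct.map ι κ x) := fun x => by
    induction x with
    | zero => simp
    | add x y hx hy => simp only [map_add, hx, hy]
    | tmul s t =>
      rw [he₀, map_mul, Algebra.TensorProduct.map_tmul, he]
      congr 1
      · show r.app W _ = (pullback.fst (q ≫ b) (q' ≫ b')).appLE O _ e₁ (q.app U s)
        rw [← Scheme.Hom.appLE_eq_app, ← Scheme.Hom.appLE_eq_app, ← CommRingCat.comp_apply,
          ← CommRingCat.comp_apply, Scheme.Hom.appLE_comp_appLE, Scheme.Hom.appLE_comp_appLE,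
          Groth.Pi1Quot.appLE_congr_hom (pullback.lift_fst _ _ _)]
      · show r.app W _ = (pullback.snd (q ≫ b) (q' ≫ b')).appLE O' _ e₂ (q'.app U' t)
        rw [← Scheme.Hom.appLE_eq_app, ← Scheme.Hom.appLE_eq_app, ← CommRingCat.comp_apply,
          ← CommRingCat.comp_apply, Scheme.Hom.appLE_comp_appLE, Scheme.Hom.appLE_comp_appLE,
          Groth.Pi1Quot.appLE_congr_hom (pullback.lift_snd _ _ _)]
  have hact : ∀ (x : G × G') (a : Γ(P, O) ⊗[Γ(Y, V)] Γ(P', O')),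
      Groth.Pi1Quot.sectionHom hinv W x (e a) = e (TensorProduct.map
        (DistribSMul.toLinearMap Γ(Y, V) Γ(P, O) x.1)
        (DistribSMul.toLinearMap Γ(Y, V) Γ(P', O') x.2) a) := fun x a => by
    induction a with
    | zero => simp
    | add a c ha hc => simp only [map_add, ha, hc]
    | tmul s t =>
      rw [he, TensorProduct.map_tmul, DistribSMul.toLinearMap_apply,
        DistribSMul.toLinearMap_apply, he, map_mul]
      congr 1
      · show (τ x⁻¹).hom.appLE _ _ _ _ = (pullback.fst (q ≫ b) (q' ≫ b')).appLE O _ e₁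
          ((ρ x.1⁻¹).hom.appLE _ _ _ s)
        rw [← CommRingCat.comp_apply, ← CommRingCat.comp_apply, Scheme.Hom.appLE_comp_appLE,
          Scheme.Hom.appLE_comp_appLE]
        exact congr($(Groth.Pi1Quot.appLE_congr_hom
          (prodHom_fst ρ ρ' q q' b b' hp.inv hp'.inv x⁻¹) _ _ _ _) s)
      · show (τ x⁻¹).hom.appLE _ _ _ _ = (pullback.snd (q ≫ b) (q' ≫ b')).appLE O' _ e₂
          ((ρ' x.2⁻¹).hom.appLE _ _ _ t)
        rw [← CommRingCat.comp_apply, ← CommRingCat.comp_apply, Scheme.Hom.appLE_comp_appLE,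
          Scheme.Hom.appLE_comp_appLE]
        exact congr($(Groth.Pi1Quot.appLE_congr_hom
          (prodHom_snd ρ ρ' q q' b b' hp.inv hp'.inv x⁻¹) _ _ _ _) t)
  refine ⟨fun s t hst => ?_, fun s hs => ?_⟩
  · obtain ⟨s', rfl⟩ := e₀.surjective s
    obtain ⟨t', rfl⟩ := e₀.surjective t
    rw [hsq, hsq] at hst
    rw [hinj (e.injective hst)]
  · obtain ⟨a, rfl⟩ := e.surjective s
    obtain ⟨c, hc⟩ := (hran a).2 fun g h => e.injective ((hact (g, h) a).symm.trans (hs (g, h)))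
    exact ⟨e₀ c, by rw [hsq, hc]⟩

end Groth.Misc10.SymZeta
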