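import Groth.Prelude.Def_K0Var
import Mathlib.AlgebraicGeometry.Morphisms.QuasiCompact

/-!
# Classes of schemes cut into finitely many clopen pieces
-/

set_option autoImplicit false

universe u

open CategoryTheory CategoryTheory.Limits AlgebraicGeometry TopologicalSpace

noncomputable section

namespace Groth.Misc10.SymZeta

theorem isClosedImmersion_ι {X : Scheme.{u}} (O : X.Opens) (h : IsClosed (O : Set X)) :
    IsClosedImmersion O.ι :=
  IsClosedImmersion.of_isPreimmersion _ (by rwa [Scheme.Opens.range_ι])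

theorem quasiCompact_ι {X : Scheme.{u}} (O : X.Opens) (h : IsClosed (O : Set X)) :
    QuasiCompact O.ι := by
  have := isClosedImmersion_ι O h
  infer_instance

/-- A scheme cut into finitely many clopen pieces has the sum of their classes. -/
theorem cl_eq_sum {S : Scheme.{u}} {ι : Type*} [DecidableEq ι] (s : Finset ι) :
    ∀ {X : Scheme.{u}} (f : X ⟶ S) [LocallyOfFiniteType f] [QuasiCompact f] (O : ι → X.Opens)
      [∀ i, QuasiCompact (O i).ι],
      (∀ i ∈ s, ∀ j ∈ s, i ≠ j → Disjoint (O i : Set X) (O j)) →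
      (∀ i ∈ s, IsClosed (O i : Set X)) → (∀ x, ∃ i ∈ s, x ∈ O i) →
      K0Var.cl f = ∑ i ∈ s, K0Var.cl ((O i).ι ≫ f) := by
  induction s using Finset.induction with
  | empty =>
    intro X f _ _ O _ _ _ hc
    have : IsEmpty X := ⟨fun x => by simpa using hc x⟩
    exact K0Var.Gen.cl_eq_zero_of_isEmpty (K0Var.Gen.mk X f)
  | insert a s ha ih =>
    intro X f _ _ O _ hd hcl hcov
    have : IsClosedImmersion (O a).ι := isClosedImmersion_ι _ (hcl a (Finset.mem_insert_self _ _))
    let U : X.Opens := ⟨(O a : Set X)ᶜ, (hcl a (Finset.mem_insert_self _ _)).isOpen_compl⟩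
    have hUc : IsClosed (U : Set X) := (O a).isOpen.isClosed_compl
    have : QuasiCompact U.ι := quasiCompact_ι U hUc
    have hsub : ∀ i ∈ s, O i ≤ U := fun i hi x hx hxa =>
      Set.disjoint_left.1 (hd i (Finset.mem_insert_of_mem hi) a (Finset.mem_insert_self _ _)
        (fun e => ha (e ▸ hi))) hx hxa
    rw [Finset.sum_insert ha, K0Var.cl_scissor f (O a).ι U.ι (by
      rw [Scheme.Opens.range_ι, Scheme.Opens.range_ι]
      exact (compl_compl _).symm)]
    congr 1
    have hq : ∀ i, QuasiCompact (U.ι ⁻¹ᵁ O i).ι := fun i => by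
      have h₁ : QuasiCompact (U.ι ∣_ O i ≫ (O i).ι) := by
        have : QuasiCompact (U.ι ∣_ O i) := inferInstance
        infer_instance
      rw [morphismRestrict_ι] at h₁
      exact QuasiCompact.of_comp _ U.ι
    rw [ih (U.ι ≫ f) (fun i => U.ι ⁻¹ᵁ O i)
      (fun i hi j hj hij => Disjoint.preimage U.ι.base
        (hd i (Finset.mem_insert_of_mem hi) j (Finset.mem_insert_of_mem hj) hij))
      (fun i hi => (hcl i (Finset.mem_insert_of_mem hi)).preimage U.ι.continuous)
      (fun x => by
        obtain ⟨i, hi, hxi⟩ := hcov (U.ι x)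
        rcases Finset.mem_insert.1 hi with rfl | hi
        · exact absurd hxi x.2
        · exact ⟨i, hi, hxi⟩)]
    refine Finset.sum_congr rfl fun i hi => ?_
    have : IsIso (U.ι ∣_ O i) := by
      rw [isIso_iff_isOpenImmersion_and_epi_base]
      refine ⟨inferInstance, (TopCat.epi_iff_surjective _).2 fun z => ?_⟩
      exact ⟨⟨⟨z.1, hsub i hi z.2⟩, z.2⟩, Subtype.ext (by rw [morphismRestrict_base]; rfl)⟩
    exact K0Var.cl_congr _ _ (asIso (U.ι ∣_ O i)) (by
      rw [asIso_hom, ← Category.assoc, morphismRestrict_ι, Category.assoc])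

end Groth.Misc10.SymZeta
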