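import Groth.Prelude.Def_SymProd
import Mathlib.AlgebraicGeometry.Morphisms.ClosedImmersion
import Mathlib.GroupTheory.Perm.Finite
import Mathlib.Logic.Equiv.Fintype

/-!
# The pieces of a fibre power of a disjoint union
-/

set_option autoImplicit false
set_option backward.isDefEq.respectTransparency false

universe u

open CategoryTheory CategoryTheory.Limits AlgebraicGeometry

noncomputable section

namespace Groth.Misc10.SymZeta

variable {X X' Y : Scheme.{u}} (f : X ⟶ Y) (f' : X' ⟶ Y) {n i j : ℕ}

/-- Which factors of a point of the fibre power lie in the first summand. -/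
def IsLeftAt (x : ↥(SymProd.fibPow (coprod.desc f f') n)) (t : Fin n) : Prop :=
  (WidePullback.π (fun _ : Fin n => coprod.desc f f') t).base x ∈
    Set.range (coprod.inl : X ⟶ X ⨿ X')

theorem isLeftAt_perm (σ : Equiv.Perm (Fin n)) (x : ↥(SymProd.fibPow (coprod.desc f f') n))
    (t : Fin n) :
    IsLeftAt f f' ((SymProd.permHom (coprod.desc f f') n σ).base x) t ↔
      IsLeftAt f f' x (σ.symm t) := by
  unfold IsLeftAt
  rw [← Scheme.Hom.comp_apply, SymProd.permHom_π]

variable {PP : Scheme.{u}} {a : PP ⟶ SymProd.fibPow f i} {a' : PP ⟶ SymProd.fibPow f' j}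
  (sq : IsPullback a a' (WidePullback.base _) (WidePullback.base _))
  (e : Fin i ⊕ Fin j ≃ Fin n)

/-- The components of the embedding of a piece. -/
def pieceComp (a : PP ⟶ SymProd.fibPow f i) (a' : PP ⟶ SymProd.fibPow f' j) :
    Fin i ⊕ Fin j → (PP ⟶ X ⨿ X') :=
  Sum.elim (fun x => a ≫ WidePullback.π (fun _ => f) x ≫ coprod.inl)
    (fun y => a' ≫ WidePullback.π (fun _ => f') y ≫ coprod.inr)

include sq in
theorem pieceComp_desc (s : Fin i ⊕ Fin j) :
    pieceComp f f' a a' s ≫ coprod.desc f f' = a ≫ WidePullback.base _ := by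
  rcases s with x | y
  · simp [pieceComp]
  · simp [pieceComp, sq.w]

/-- The embedding of a piece. -/
def pieceι : PP ⟶ SymProd.fibPow (coprod.desc f f') n :=
  WidePullback.lift (a ≫ WidePullback.base _) (fun t => pieceComp f f' a a' (e.symm t))
    fun _ => pieceComp_desc f f' sq _

@[reassoc]
theorem pieceι_π (t : Fin n) :
    pieceι f f' sq e ≫ WidePullback.π _ t = pieceComp f f' a a' (e.symm t) :=
  WidePullback.lift_π _ _ _ _ t

@[reassoc]
theorem pieceι_base : pieceι f f' sq e ≫ WidePullback.base _ = a ≫ WidePullback.base _ :=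
  WidePullback.lift_base _ _ _ _

/-- The open of points with a given pattern. -/
def patternOpen : (SymProd.fibPow (coprod.desc f f') n).Opens :=
  ⟨⋂ t : Fin n, (WidePullback.π (fun _ : Fin n => coprod.desc f f') t).base ⁻¹'
      (Sum.elim (fun _ => Set.range (coprod.inl : X ⟶ X ⨿ X'))
        (fun _ => Set.range (coprod.inr : X' ⟶ X ⨿ X')) (e.symm t)),
    isOpen_iInter_of_finite fun t => by
      refine IsOpen.preimage (Scheme.Hom.continuous _) ?_
      rcases e.symm t with x | y
      · exact (coprod.inl : X ⟶ X ⨿ X').isOpenEmbedding.isOpen_range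
      · exact (coprod.inr : X' ⟶ X ⨿ X').isOpenEmbedding.isOpen_range⟩

theorem mem_patternOpen {x : ↥(SymProd.fibPow (coprod.desc f f') n)} :
    x ∈ patternOpen f f' e ↔ ∀ t, IsLeftAt f f' x t ↔ (e.symm t).isLeft := by
  refine Set.mem_iInter.trans (forall_congr' fun t => ?_)
  rcases e.symm t with s | s
  · simp [IsLeftAt]
  · simp only [Sum.elim_inr, Set.mem_preimage, Sum.isLeft_inr, Bool.false_eq_true, iff_false, IsLeftAt]
    rw [← (isCompl_range_inl_inr X X').compl_eq, Set.mem_compl_iff]

include sq in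
theorem exists_iso_patternOpen :
    ∃ φ : PP ≅ (patternOpen f f' e).toScheme, φ.hom ≫ (patternOpen f f' e).ι = pieceι f f' sq e := by
  let O := patternOpen f f' e
  have hO : ∀ (z : O.toScheme) (t : Fin n),
      (WidePullback.π (fun _ : Fin n => coprod.desc f f') t).base (O.ι z) ∈
        Sum.elim (fun _ => Set.range (coprod.inl : X ⟶ X ⨿ X'))
          (fun _ => Set.range (coprod.inr : X' ⟶ X ⨿ X')) (e.symm t) :=
    fun z t => Set.mem_iInter.1 z.2 t
  let cx : Fin i → (O.toScheme ⟶ X) := fun x =>
    IsOpenImmersion.lift coprod.inl (O.ι ≫ WidePullback.π _ (e (Sum.inl x))) (by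
      rintro _ ⟨z, rfl⟩
      simpa using hO z (e (Sum.inl x)))
  let cy : Fin j → (O.toScheme ⟶ X') := fun y =>
    IsOpenImmersion.lift coprod.inr (O.ι ≫ WidePullback.π _ (e (Sum.inr y))) (by
      rintro _ ⟨z, rfl⟩
      simpa using hO z (e (Sum.inr y)))
  have hcx : ∀ x, cx x ≫ coprod.inl = O.ι ≫ WidePullback.π _ (e (Sum.inl x)) := fun x =>
    IsOpenImmersion.lift_fac _ _ _
  have hcy : ∀ y, cy y ≫ coprod.inr = O.ι ≫ WidePullback.π _ (e (Sum.inr y)) := fun y =>
    IsOpenImmersion.lift_fac _ _ _
  have hx : ∀ x, cx x ≫ f = O.ι ≫ WidePullback.base _ := fun x => by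
    refine (congrArg (cx x ≫ ·) (coprod.inl_desc f f').symm).trans ?_
    rw [reassoc_of% hcx x, WidePullback.π_arrow]
  have hy : ∀ y, cy y ≫ f' = O.ι ≫ WidePullback.base _ := fun y => by
    refine (congrArg (cy y ≫ ·) (coprod.inr_desc f f').symm).trans ?_
    rw [reassoc_of% hcy y, WidePullback.π_arrow]
  let c : O.toScheme ⟶ PP := sq.lift (WidePullback.lift _ cx hx) (WidePullback.lift _ cy hy) (by
    rw [WidePullback.lift_base, WidePullback.lift_base])
  have hrange : Set.range (pieceι f f' sq e).base ⊆ (O : Set _) := by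
    rintro _ ⟨z, rfl⟩
    refine Set.mem_iInter.2 fun t => ?_
    rw [Set.mem_preimage, ← Scheme.Hom.comp_apply, pieceι_π]
    rcases e.symm t with x | y
    · simp only [pieceComp, Sum.elim_inl, Scheme.Hom.comp_apply]
      exact Set.mem_range_self _
    · simp only [pieceComp, Sum.elim_inr, Scheme.Hom.comp_apply]
      exact Set.mem_range_self _
  let b : PP ⟶ O := IsOpenImmersion.lift O.ι (pieceι f f' sq e)
    (by rw [Scheme.Opens.range_ι]; exact hrange)
  have hb : b ≫ O.ι = pieceι f f' sq e := IsOpenImmersion.lift_fac _ _ _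
  refine ⟨⟨b, c, ?_, ?_⟩, hb⟩
  · apply sq.hom_ext
    · rw [Category.assoc, sq.lift_fst, Category.id_comp]
      apply WidePullback.hom_ext
      · intro x
        rw [Category.assoc, WidePullback.lift_π, ← cancel_mono (coprod.inl : X ⟶ X ⨿ X'),
          Category.assoc, hcx, ← Category.assoc, hb, pieceι_π, Equiv.symm_apply_apply]
        simp [pieceComp]
      · rw [Category.assoc, WidePullback.lift_base, ← Category.assoc, hb, pieceι_base]
    · rw [Category.assoc, sq.lift_snd, Category.id_comp]
      apply WidePullback.hom_ext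
      · intro y
        rw [Category.assoc, WidePullback.lift_π, ← cancel_mono (coprod.inr : X' ⟶ X ⨿ X'),
          Category.assoc, hcy, ← Category.assoc, hb, pieceι_π, Equiv.symm_apply_apply]
        simp [pieceComp]
      · rw [Category.assoc, WidePullback.lift_base, ← Category.assoc, hb, pieceι_base, sq.w]
  · rw [← cancel_mono O.ι, Category.assoc, hb, Category.id_comp]
    apply WidePullback.hom_ext
    · intro t
      rw [Category.assoc, pieceι_π]
      obtain ⟨s, rfl⟩ := e.surjective t
      rw [Equiv.symm_apply_apply]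
      rcases s with x | y
      · simp only [pieceComp, Sum.elim_inl, c, sq.lift_fst_assoc, WidePullback.lift_π_assoc, hcx]
      · simp only [pieceComp, Sum.elim_inr, c, sq.lift_snd_assoc, WidePullback.lift_π_assoc, hcy]
    · rw [Category.assoc, pieceι_base, sq.lift_fst_assoc, WidePullback.lift_base]

theorem range_pieceι : Set.range (pieceι f f' sq e).base = (patternOpen f f' e : Set _) := by
  obtain ⟨φ, hφ⟩ := exists_iso_patternOpen f f' sq e
  rw [← hφ]
  ext z
  constructor
  · rintro ⟨w, rfl⟩
    exact (φ.hom w).2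
  · intro hz
    obtain ⟨w, hw⟩ := (φ.hom.homeomorph).surjective ⟨z, hz⟩
    exact ⟨w, (congrArg (fun v => (patternOpen f f' e).ι v) hw)⟩

theorem isClosed_patternOpen :
    IsClosed (patternOpen f f' e : Set ↥(SymProd.fibPow (coprod.desc f f') n)) := by
  refine isClosed_iInter fun t => IsClosed.preimage (Scheme.Hom.continuous _) ?_
  rcases e.symm t with x | y
  · rw [Sum.elim_inl, ← (isCompl_range_inl_inr X X').symm.compl_eq]
    exact (coprod.inr : X' ⟶ X ⨿ X').isOpenEmbedding.isOpen_range.isClosed_compl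
  · rw [Sum.elim_inr, ← (isCompl_range_inl_inr X X').compl_eq]
    exact (coprod.inl : X ⟶ X ⨿ X').isOpenEmbedding.isOpen_range.isClosed_compl

theorem isOpenImmersion_pieceι : IsOpenImmersion (pieceι f f' sq e) := by
  obtain ⟨φ, hφ⟩ := exists_iso_patternOpen f f' sq e
  rw [← hφ]
  infer_instance

theorem isClosedImmersion_pieceι : IsClosedImmersion (pieceι f f' sq e) := by
  have := isOpenImmersion_pieceι f f' sq e
  refine IsClosedImmersion.of_isPreimmersion _ ?_
  rw [range_pieceι]
  exact isClosed_patternOpen f f' e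

/-- A pair of permutations of the two blocks as a permutation of all factors. -/
def blockPerm (σ : Equiv.Perm (Fin i) × Equiv.Perm (Fin j)) : Equiv.Perm (Fin n) :=
  e.permCongr (Equiv.sumCongr σ.1 σ.2)

theorem blockPerm_injective : Function.Injective (blockPerm e) := fun σ τ h => by
  have h' := e.permCongr.injective h
  refine Prod.ext (Equiv.ext fun x => ?_) (Equiv.ext fun y => ?_)
  · simpa using congr($h' (Sum.inl x))
  · simpa using congr($h' (Sum.inr y))

theorem pieceι_perm (σ : Equiv.Perm (Fin i) × Equiv.Perm (Fin j)) {τ : PP ⟶ PP}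
    (h₁ : τ ≫ a = a ≫ SymProd.permHom f i σ.1) (h₂ : τ ≫ a' = a' ≫ SymProd.permHom f' j σ.2) :
    τ ≫ pieceι f f' sq e =
      pieceι f f' sq e ≫ SymProd.permHom (coprod.desc f f') n (blockPerm e σ) := by
  apply WidePullback.hom_ext
  · intro t
    rw [Category.assoc, pieceι_π, Category.assoc, SymProd.permHom_π, pieceι_π]
    obtain ⟨s, rfl⟩ := e.surjective t
    have hs : e.symm ((blockPerm e σ).symm (e s)) = (Equiv.sumCongr σ.1 σ.2).symm s := by
      simp [blockPerm, Equiv.permCongr_def]
    rw [hs, Equiv.symm_apply_apply]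
    rcases s with x | y
    · simp [pieceComp, reassoc_of% h₁]
    · simp [pieceComp, reassoc_of% h₂]
  · rw [Category.assoc, pieceι_base, Category.assoc, SymProd.permHom_base, pieceι_base,
      reassoc_of% h₁, SymProd.permHom_base]

/-- A permutation carrying a point of the piece into the piece fixes the blocks. -/
theorem mem_range_blockPerm (σ : Equiv.Perm (Fin n)) {x : ↥(SymProd.fibPow (coprod.desc f f') n)}
    (hx : x ∈ patternOpen f f' e)
    (hσ : (SymProd.permHom (coprod.desc f f') n σ).base x ∈ patternOpen f f' e) :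
    σ ∈ Set.range (blockPerm e) := by
  rw [mem_patternOpen] at hx hσ
  have hmap : Set.MapsTo (e.symm.permCongr σ) (Set.range Sum.inl) (Set.range Sum.inl) := by
    rintro _ ⟨a, rfl⟩
    rw [Set.mem_range]
    have h1 := (hσ (σ (e (Sum.inl a)))).1 ((isLeftAt_perm f f' σ x _).2 (by
      rw [Equiv.symm_apply_apply]
      exact (hx _).2 (by simp)))
    obtain ⟨b, hb⟩ := Sum.isLeft_iff.1 h1
    exact ⟨b, by simpa [Equiv.permCongr_def] using hb.symm⟩
  obtain ⟨τ, hτ⟩ := Equiv.Perm.mem_sumCongrHom_range_of_perm_mapsTo_inl hmap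
  refine ⟨τ, e.symm.permCongr.injective (Eq.trans ?_ hτ)⟩
  ext s
  simp [blockPerm, Equiv.permCongr_def, Equiv.Perm.sumCongrHom]

/-- The translates of the piece are the points with the same number of factors on each side. -/
theorem exists_perm_mem_patternOpen (x : ↥(SymProd.fibPow (coprod.desc f f') n)) :
    (∃ σ : Equiv.Perm (Fin n), (SymProd.permHom (coprod.desc f f') n σ).base x ∈ patternOpen f f' e) ↔
      Nat.card {t // IsLeftAt f f' x t} = i := by
  classical
  have hcard : Nat.card {t : Fin n // (e.symm t).isLeft} = i := by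
    rw [Nat.card_congr (Equiv.subtypeEquiv (p := fun t : Fin n => ((e.symm t).isLeft : Prop))
      (q := fun s : Fin i ⊕ Fin j => (s.isLeft : Prop)) e.symm fun t => Iff.rfl)]
    rw [Nat.card_congr (Equiv.subtypeEquivRight (q := fun s : Fin i ⊕ Fin j => s ∈ Set.range Sum.inl)
      fun s => by cases s <;> simp), Nat.card_congr (Equiv.ofInjective Sum.inl Sum.inl_injective).symm]
    exact Nat.card_fin i
  constructor
  · rintro ⟨σ, hσ⟩
    rw [mem_patternOpen] at hσ
    rw [← hcard]
    refine Nat.card_congr (Equiv.subtypeEquiv σ fun t => ?_)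
    rw [← hσ, isLeftAt_perm, Equiv.symm_apply_apply]
  · intro h
    obtain ⟨φ⟩ : Nonempty ({t // IsLeftAt f f' x t} ≃ {t : Fin n // (e.symm t).isLeft}) :=
      ⟨(Finite.equivFin _).trans ((finCongr (h.trans hcard.symm)).trans (Finite.equivFin _).symm)⟩
    refine ⟨φ.extendSubtype, (mem_patternOpen f f' e).2 fun t => ?_⟩
    rw [isLeftAt_perm]
    constructor
    · intro ht
      simpa using φ.extendSubtype_mem _ ht
    · intro ht
      by_contra hn
      exact φ.extendSubtype_not_mem _ hn (by simpa using ht)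

end Groth.Misc10.SymZeta
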