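import Groth.Agent.Pi1Quot.Basic
import Mathlib.AlgebraicGeometry.Morphisms.ClosedImmersion
import Mathlib.Data.Fintype.Card
import Mathlib.SetTheory.Cardinal.Finite

/-!
# Quotients restricted to a clopen piece with its stabilizer
-/

set_option autoImplicit false
set_option backward.isDefEq.respectTransparency false

universe u

open CategoryTheory AlgebraicGeometry TopologicalSpace Opposite

noncomputable section

namespace Groth.Misc10.SymZeta

variable {P P₀ T : Scheme.{u}} {G H : Type u} [Group G] [Group H] [Finite G] [Finite H]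
  {ρ : G →* Aut P} {Q : P ⟶ T} (ι : P₀ ⟶ P) (τ : H →* Aut P₀) (φ : H → G)

/-- If a clopen piece meets its translates only along its stabilizer, of invertible order, then it has
the same quotient as its saturation. -/
theorem exists_isQuot_piece (hp : SGA1.IsQuot ρ Q) [IsOpenImmersion ι] [IsClosedImmersion ι]
    (hφ : ∀ h, (τ h).hom ≫ ι = ι ≫ (ρ (φ h)).hom) (hφi : Function.Injective φ)
    (hdisj : ∀ (g : G) (x : P₀), (ρ g).hom (ι x) ∈ Set.range ι → g ∈ Set.range φ)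
    (hn : ∀ W : T.Opens, IsUnit (Nat.card H : Γ(T, W))) :
    ∃ (T₀ : T.Opens) (r : P₀ ⟶ T₀), (T₀ : Set T) = Q '' Set.range ι ∧ r ≫ T₀.ι = ι ≫ Q ∧
      SGA1.IsQuot τ r := by
  classical
  cases nonempty_fintype G
  cases nonempty_fintype H
  have := hp.affine
  have hsat : Q.base ⁻¹' (Q.base '' Set.range ι) = ⋃ g : G, (ρ g).hom.base ⁻¹' Set.range ι := by
    ext x
    constructor
    · rintro ⟨y, hy, e⟩
      obtain ⟨g, hg⟩ := Groth.Pi1Quot.exists_smul_eq hp e.symm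
      exact Set.mem_iUnion.2 ⟨g, by rw [Set.mem_preimage, hg]; exact hy⟩
    · intro hx
      obtain ⟨g, hg⟩ := Set.mem_iUnion.1 hx
      exact ⟨_, hg, Groth.Pi1Quot.apply_smul hp g x⟩
  let T₀ : T.Opens := ⟨Q.base '' Set.range ι, by
    rw [← (Groth.Pi1Quot.isQuotientMap hp).isOpen_preimage, hsat]
    exact isOpen_iUnion fun g => ι.isOpenEmbedding.isOpen_range.preimage (ρ g).hom.continuous⟩
  let r : P₀ ⟶ T₀ := IsOpenImmersion.lift T₀.ι (ι ≫ Q) (by
    rintro _ ⟨x, rfl⟩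
    rw [Scheme.Opens.range_ι]
    exact ⟨ι x, ⟨x, rfl⟩, rfl⟩)
  have hr : r ≫ T₀.ι = ι ≫ Q := IsOpenImmersion.lift_fac _ _ _
  have : IsAffineHom r := by
    have : IsAffineHom (r ≫ T₀.ι) := by rw [hr]; infer_instance
    exact IsAffineHom.of_comp r T₀.ι
  have hinv : ∀ h, (τ h).hom ≫ r = r := fun h => by
    rw [← cancel_mono T₀.ι, Category.assoc, hr, ← Category.assoc, hφ, Category.assoc, hp.inv]
  refine ⟨T₀, r, rfl, hr, ?_⟩
  let C : P.Opens := ⟨(Set.range ι)ᶜ, ι.isClosedEmbedding.isClosed_range.isOpen_compl⟩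
  -- sections of the quotient as sections of the piece
  have main : ∀ W : T.Opens, W ≤ T₀ →
      Function.Injective ((ι ≫ Q).app W).hom ∧ ∀ s : Γ(P₀, (ι ≫ Q) ⁻¹ᵁ W),
        (∀ h : H, (τ h).hom.appLE ((ι ≫ Q) ⁻¹ᵁ W) ((ι ≫ Q) ⁻¹ᵁ W) (by
            rw [← Scheme.Hom.comp_preimage, ← Category.assoc, hφ, Category.assoc, hp.inv]) s = s) →
        ∃ t, (ι ≫ Q).app W t = s := by
    intro W hW
    let R : P.Opens := Q ⁻¹ᵁ W ⊓ ι.opensRange
    let C' : P.Opens := Q ⁻¹ᵁ W ⊓ C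
    let O := (ι ≫ Q) ⁻¹ᵁ W
    let res : Γ(P, Q ⁻¹ᵁ W) ⟶ Γ(P₀, O) := ι.app (Q ⁻¹ᵁ W)
    let rR : Γ(P, Q ⁻¹ᵁ W) ⟶ Γ(P, R) := P.presheaf.map (homOfLE inf_le_left).op
    let rC : Γ(P, Q ⁻¹ᵁ W) ⟶ Γ(P, C') := P.presheaf.map (homOfLE inf_le_left).op
    have hOR : O ≤ ι ⁻¹ᵁ R := fun x hx => ⟨hx, ⟨x, rfl⟩⟩
    have hres : res = rR ≫ ι.appLE R O hOR := by
      rw [Scheme.Hom.map_appLE]
      exact ι.app_eq_appLE
    have : IsIso (ι.appLE R O hOR) := by
      have : IsIso (ι.app R) := ι.isIso_app R inf_le_right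
      have e : ι ⁻¹ᵁ R = O := le_antisymm (fun x hx => hx.1) hOR
      rw [show ι.appLE R O hOR = ι.app R ≫ P₀.presheaf.map (homOfLE hOR).op from rfl]
      have : IsIso (homOfLE hOR) := ⟨homOfLE e.le, Subsingleton.elim _ _, Subsingleton.elim _ _⟩
      infer_instance
    have hR0 : ∀ a, res a = 0 → rR a = 0 := fun a ha => by
      refine (ConcreteCategory.bijective_of_isIso (ι.appLE R O hOR)).1 ?_
      rw [map_zero]
      rw [hres] at ha
      exact ha
    have htr : ∀ (g : G) (a : Γ(P, Q ⁻¹ᵁ W)),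
        res ((ρ g).hom.appLE _ _ (SGA1.preimage_le_of_inv ρ Q hp.inv g W) a) =
          (ι ≫ (ρ g).hom).appLE (Q ⁻¹ᵁ W) O (by
            rw [← Scheme.Hom.comp_preimage, Category.assoc, hp.inv]) a := fun g a => by
      show ι.app _ _ = _
      rw [← Scheme.Hom.appLE_eq_app, ← CommRingCat.comp_apply, Scheme.Hom.appLE_comp_appLE]
      rfl
    have hfaith : ∀ a : Γ(P, Q ⁻¹ᵁ W),
        (∀ g, (ρ g).hom.appLE _ _ (SGA1.preimage_le_of_inv ρ Q hp.inv g W) a = a) →
        res a = 0 → a = 0 := by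
      intro a ha h0
      let Og : G → P.Opens := fun g => Q ⁻¹ᵁ W ⊓ (ρ g).hom ⁻¹ᵁ ι.opensRange
      refine TopCat.Sheaf.eq_of_locally_eq' P.sheaf Og _ (fun g => homOfLE inf_le_left)
        (fun x hx => ?_) a 0 fun g => ?_
      · obtain ⟨g, hg⟩ := Set.mem_iUnion.1 (hsat ▸ show x ∈ Q.base ⁻¹' (T₀ : Set T) from hW hx)
        exact Opens.mem_iSup.2 ⟨g, hx, hg⟩
      · have hle : Og g ≤ (ρ g).hom ⁻¹ᵁ R := fun x hx =>
          ⟨SGA1.preimage_le_of_inv ρ Q hp.inv g W hx.1, hx.2⟩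
        show P.presheaf.map _ a = P.presheaf.map _ 0
        rw [map_zero]
        conv_lhs => rw [← ha g]
        have e : (ρ g).hom.appLE _ _ (SGA1.preimage_le_of_inv ρ Q hp.inv g W) ≫
            P.presheaf.map (homOfLE (show Og g ≤ Q ⁻¹ᵁ W from inf_le_left)).op =
              rR ≫ (ρ g).hom.appLE R (Og g) hle := by
          rw [Scheme.Hom.appLE_map, Scheme.Hom.map_appLE]
        refine (congr($e a)).trans ?_
        rw [CommRingCat.comp_apply, hR0 a h0, map_zero]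
    have happ : (ι ≫ Q).app W = Q.app W ≫ res := Scheme.Hom.comp_app ι Q W
    refine ⟨(injective_iff_map_eq_zero _).2 fun t ht => hp.injective W ?_, fun s hs => ?_⟩
    · rw [map_zero]
      refine hfaith _ ((hp.range_iff W _).1 ⟨t, rfl⟩) ?_
      rw [happ] at ht
      exact ht
    -- extension by zero
    obtain ⟨sR, hsR⟩ := (ConcreteCategory.bijective_of_isIso (ι.appLE R O hOR)).2 s
    let pair : ULift.{u} Bool → P.Opens := fun b => cond b.down R C'
    obtain ⟨a₀, ha₀, -⟩ := TopCat.Sheaf.existsUnique_gluing' P.sheaf pair (Q ⁻¹ᵁ W)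
      (fun b => homOfLE (by rcases b with ⟨_ | _⟩ <;> exact inf_le_left))
      (fun x hx => Opens.mem_iSup.2 (by
        by_cases h : x ∈ Set.range ι
        · exact ⟨⟨true⟩, hx, h⟩
        · exact ⟨⟨false⟩, hx, h⟩))
      (fun b => match b with | ⟨true⟩ => sR | ⟨false⟩ => 0)
      (by
        intro b c
        rcases b with ⟨_ | _⟩ <;> rcases c with ⟨_ | _⟩
        · rfl
        · have he : pair ⟨false⟩ ⊓ pair ⟨true⟩ ≤ (⊥ : P.Opens) := fun x hx => hx.1.2 hx.2.2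
          exact (CommRingCat.subsingleton_of_isTerminal
            (P.sheaf.isTerminalOfEqEmpty (le_bot_iff.1 he))).elim _ _
        · have he : pair ⟨true⟩ ⊓ pair ⟨false⟩ ≤ (⊥ : P.Opens) := fun x hx => hx.2.2 hx.1.2
          exact (CommRingCat.subsingleton_of_isTerminal
            (P.sheaf.isTerminalOfEqEmpty (le_bot_iff.1 he))).elim _ _
        · rfl)
    have h₁ : res a₀ = s := by
      rw [hres, CommRingCat.comp_apply, ← hsR]
      exact congrArg _ (ha₀ ⟨true⟩)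
    have h₂ : rC a₀ = 0 := ha₀ ⟨false⟩
    let a : Γ(P, Q ⁻¹ᵁ W) :=
      ∑ g : G, Groth.Pi1Quot.sectionHom hp.inv W g a₀
    obtain ⟨t, ht⟩ := (hp.range_iff W a).2 ((Groth.Pi1Quot.forall_smul_iff hp.inv W a).1 fun g => by
      rw [map_sum]
      exact Fintype.sum_equiv (Equiv.mulLeft g) _ _ fun x =>
        (congr($(Groth.Pi1Quot.sectionHom_mul hp.inv W g x) a₀)).symm)
    have hconj : res a =
        ∑ g : G, res ((ρ g).hom.appLE _ _ (SGA1.preimage_le_of_inv ρ Q hp.inv g W) a₀) :=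
      (map_sum res.hom _ _).trans (Fintype.sum_equiv (Equiv.inv G) _ _ fun g => rfl)
    have hsum : res a = (Fintype.card H : Γ(P₀, O)) * s := by
      rw [hconj, ← Finset.sum_subset (Finset.subset_univ (Finset.univ.image φ)) fun g _ hg => ?_,
        Finset.sum_image fun x _ y _ e => hφi e]
      · rw [Finset.sum_eq_card_nsmul fun h _ => ?_, nsmul_eq_mul, Finset.card_univ]
        have hle : O ≤ (τ h).hom ⁻¹ᵁ O := by
          rw [← Scheme.Hom.comp_preimage, ← Category.assoc, hφ, Category.assoc, hp.inv]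
        rw [htr, Groth.Pi1Quot.appLE_congr_hom (hφ h).symm (Q ⁻¹ᵁ W) O _ hle,
          ← Scheme.Hom.appLE_comp_appLE (τ h).hom ι (Q ⁻¹ᵁ W) O O le_rfl hle,
          CommRingCat.comp_apply]
        have e : ι.appLE (Q ⁻¹ᵁ W) O le_rfl a₀ = s :=
          (DFunLike.congr_fun (congrArg CommRingCat.Hom.hom (ι.app_eq_appLE (U := Q ⁻¹ᵁ W))) a₀).symm.trans h₁
        exact (congrArg _ e).trans (hs h)
      · have hle : O ≤ (ι ≫ (ρ g).hom) ⁻¹ᵁ C' := fun x hx =>
          ⟨SGA1.preimage_le_of_inv ρ Q hp.inv g W hx, fun hx' => by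
            obtain ⟨h, rfl⟩ := hdisj g x hx'
            exact hg (Finset.mem_image.2 ⟨h, Finset.mem_univ _, rfl⟩)⟩
        rw [htr, ← Scheme.Hom.map_appLE (ι ≫ (ρ g).hom) hle (homOfLE inf_le_left).op,
          CommRingCat.comp_apply]
        exact (congrArg _ h₂).trans (map_zero _)
    obtain ⟨u, hu⟩ := hn W
    refine ⟨↑u⁻¹ * t, ?_⟩
    have hu' : (ι ≫ Q).app W ↑u⁻¹ * (Fintype.card H : Γ(P₀, O)) = 1 := by
      have := congrArg ((ι ≫ Q).app W) u.inv_mul
      rwa [map_mul, hu, map_natCast, map_one, Nat.card_eq_fintype_card] at this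
    rw [map_mul]
    conv_lhs => rw [show (ι ≫ Q).app W t = res (Q.app W t) from congr($happ t)]
    rw [show Q.app W t = a from ht, hsum, ← mul_assoc]
    exact (congrArg (· * s) hu').trans (one_mul s)
  have key : ∀ U : T₀.toScheme.Opens, Function.Injective (r.app U).hom ∧
      ∀ s : Γ(P₀, r ⁻¹ᵁ U), (∀ h, Groth.Pi1Quot.sectionHom hinv U h s = s) → ∃ t, r.app U t = s := by
    intro U
    obtain ⟨W, hW, rfl⟩ : ∃ W : T.Opens, W ≤ T₀ ∧ T₀.ι ⁻¹ᵁ W = U :=
      ⟨T₀.ι ''ᵁ U, by rintro _ ⟨x, -, rfl⟩; exact x.2, T₀.ι.preimage_image_eq U⟩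
    have : IsIso (T₀.ι.app W) := T₀.ι.isIso_app W (by rwa [Scheme.Opens.opensRange_ι])
    obtain ⟨hi, hs⟩ := main W hW
    have e : r ⁻¹ᵁ T₀.ι ⁻¹ᵁ W = (ι ≫ Q) ⁻¹ᵁ W := by rw [← hr]; rfl
    have happ : T₀.ι.app W ≫ r.app (T₀.ι ⁻¹ᵁ W) =
        (ι ≫ Q).app W ≫ P₀.presheaf.map (eqToHom e).op := by
      rw [← Scheme.Hom.comp_app, Scheme.Hom.congr_app hr]
    have hb : Function.Bijective (P₀.presheaf.map (eqToHom e).op) :=
      ConcreteCategory.bijective_of_isIso _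
    refine ⟨fun x y hxy => ?_, fun s hsinv => ?_⟩
    · obtain ⟨x, rfl⟩ := (ConcreteCategory.bijective_of_isIso (T₀.ι.app W)).2 x
      obtain ⟨y, rfl⟩ := (ConcreteCategory.bijective_of_isIso (T₀.ι.app W)).2 y
      exact congrArg _ (hi (hb.1 ((congr($happ x)).symm.trans (hxy.trans (congr($happ y))))))
    · obtain ⟨s, rfl⟩ := hb.2 s
      obtain ⟨t, ht⟩ := hs s fun h => by
        refine hb.1 ?_
        have := (Groth.Pi1Quot.forall_smul_iff hinv _ _).1 hsinv h
        rw [← CommRingCat.comp_apply, Scheme.Hom.map_appLE] at this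
        rw [← CommRingCat.comp_apply, Scheme.Hom.appLE_map]
        exact this
      exact ⟨T₀.ι.app W t, (congr($happ t)).trans (congrArg _ ht)⟩
  exact
    { affine := inferInstance
      inv := hinv
      injective := fun U => (key U).1
      range_iff := fun U s => ⟨fun ⟨t, ht⟩ => (Groth.Pi1Quot.forall_smul_iff hinv U s).1 fun h =>
          ht ▸ Groth.Pi1Quot.sectionHom_app hinv U h t,
        fun hs => (key U).2 s ((Groth.Pi1Quot.forall_smul_iff hinv U s).2 hs)⟩ }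

end Groth.Misc10.SymZeta
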