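import Groth.Agent.Misc10.SymZeta.ProdQuot
import Groth.Agent.Misc10.SymZeta.PieceQuot
import Groth.Agent.Misc10.SymZeta.Piece
import Groth.Agent.Misc10.SymZeta.Classes
import Groth.Agent.S2925

/-!
# Symmetric products of a disjoint union
-/

set_option autoImplicit false
set_option backward.isDefEq.respectTransparency false

universe u

open CategoryTheory CategoryTheory.Limits AlgebraicGeometry

noncomputable section

namespace Groth.Misc10.SymZeta

/-- Positive integers are units in the sections of a scheme over a field of characteristic zero. -/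
theorem isUnit_natCast {k : Type u} [Field k] [CharZero k] {Z : Scheme.{u}}
    (p : Z ⟶ Spec (CommRingCat.of k)) (W : Z.Opens) {m : ℕ} (hm : m ≠ 0) :
    IsUnit (m : Γ(Z, W)) := by
  have h := (isUnit_iff_ne_zero.2 (Nat.cast_ne_zero.2 hm : (m : k) ≠ 0)).map
    ((Scheme.ΓSpecIso (CommRingCat.of k)).inv ≫ p.appLE ⊤ W le_top).hom
  rwa [map_natCast] at h

/-- Quotients of the same action are isomorphic. -/
theorem exists_iso_of_isQuot {P A B : Scheme.{u}} {G : Type u} [Group G] [Finite G]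
    {ρ : G →* Aut P} {p : P ⟶ A} {q : P ⟶ B} (hp : SGA1.IsQuot ρ p) (hq : SGA1.IsQuot ρ q) :
    ∃ e : A ≅ B, p ≫ e.hom = q := by
  obtain ⟨u, hu, -⟩ := Groth.Agent.S2925.result ρ p hp B q hq.inv
  obtain ⟨v, hv, -⟩ := Groth.Agent.S2925.result ρ q hq A p hp.inv
  refine ⟨⟨u, v, ?_, ?_⟩, hu⟩
  · exact (Groth.Agent.S2925.result ρ p hp A p hp.inv).unique (by rw [reassoc_of% hu, hv]) (Category.comp_id _)
  · exact (Groth.Agent.S2925.result ρ q hq B q hq.inv).unique (by rw [reassoc_of% hv, hu]) (Category.comp_id _)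

variable {X X' Y : Scheme.{u}} {f : X ⟶ Y} {f' : X' ⟶ Y} {n i j : ℕ}

/-- One piece of a symmetric product of a disjoint union. -/
theorem exists_piece {k : Type u} [Field k] [CharZero k] (pY : Y ⟶ Spec (CommRingCat.of k))
    {A : Scheme.{u}} {q : SymProd.fibPow f i ⟶ A} {g : A ⟶ Y} (hA : SymProd.IsSymProd f i q g)
    {B : Scheme.{u}} {q' : SymProd.fibPow f' j ⟶ B} {g' : B ⟶ Y} (hB : SymProd.IsSymProd f' j q' g')
    {T : Scheme.{u}} {Q : SymProd.fibPow (coprod.desc f f') n ⟶ T} {h : T ⟶ Y}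
    (hT : SymProd.IsSymProd (coprod.desc f f') n Q h) (hij : i + j = n) :
    ∃ (T₀ : T.Opens) (φ : pullback g g' ≅ T₀.toScheme),
      φ.hom ≫ T₀.ι ≫ h = pullback.fst g g' ≫ g ∧
        ∀ x, Q.base x ∈ T₀ ↔ Nat.card {t // IsLeftAt f f' x t} = i := by
  let e : Fin i ⊕ Fin j ≃ Fin n := finSumFinEquiv.trans (finCongr hij)
  let PP := pullback (q ≫ g) (q' ≫ g')
  have sq : IsPullback (pullback.fst (q ≫ g) (q' ≫ g')) (pullback.snd (q ≫ g) (q' ≫ g'))
      (WidePullback.base (fun _ : Fin i => f)) (WidePullback.base (fun _ : Fin j => f')) :=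
    (IsPullback.of_hasPullback (q ≫ g) (q' ≫ g')).of_iso (Iso.refl _) (Iso.refl _) (Iso.refl _)
      (Iso.refl _) (by simp) (by simp) (by simp [hA.over]) (by simp [hB.over])
  have := isOpenImmersion_pieceι f f' sq e
  have := isClosedImmersion_pieceι f f' sq e
  let τ := prodAct (SymProd.permActU f i) (SymProd.permActU f' j) q q' g g' hA.isQuot.inv hB.isQuot.inv
  let φ : ULift.{u} (Equiv.Perm (Fin i)) × ULift.{u} (Equiv.Perm (Fin j)) →
      ULift.{u} (Equiv.Perm (Fin n)) := fun σ => ⟨blockPerm e (σ.1.down, σ.2.down)⟩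
  have hφi : Function.Injective φ := fun σ σ' hσ => by
    have := blockPerm_injective e (congrArg ULift.down hσ)
    exact Prod.ext (ULift.ext _ _ (congrArg Prod.fst this)) (ULift.ext _ _ (congrArg Prod.snd this))
  have hφ : ∀ σ, (τ σ).hom ≫ pieceι f f' sq e =
      pieceι f f' sq e ≫ (SymProd.permActU (coprod.desc f f') n (φ σ)).hom := fun σ => by
    rw [SymProd.permActU_hom]
    refine pieceι_perm f f' sq e _ ?_ ?_
    · exact (prodHom_fst _ _ q q' g g' hA.isQuot.inv hB.isQuot.inv σ).trans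
        (by rw [SymProd.permActU_hom])
    · exact (prodHom_snd _ _ q q' g g' hA.isQuot.inv hB.isQuot.inv σ).trans
        (by rw [SymProd.permActU_hom])
  obtain ⟨T₀, r, hT₀, hr, hrq⟩ := exists_isQuot_piece (pieceι f f' sq e) τ φ hT.isQuot hφ hφi
    (fun σ x hx => by
      rw [SymProd.permActU_hom, range_pieceι] at hx
      obtain ⟨b, hb⟩ := mem_range_blockPerm f f' e σ.down
        ((range_pieceι f f' sq e).le ⟨x, rfl⟩) hx
      exact ⟨(⟨b.1⟩, ⟨b.2⟩), ULift.ext _ _ hb⟩)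
    (fun W => isUnit_natCast (h ≫ pY) W Nat.card_pos.ne')
  have hprod := isQuot_prodMap (SymProd.permActU f i) (SymProd.permActU f' j) q q' g g'
    hA.isQuot hB.isQuot fun V => ⟨isUnit_natCast pY V Nat.card_pos.ne',
      isUnit_natCast pY V Nat.card_pos.ne'⟩
  obtain ⟨Φ, hΦ⟩ := exists_iso_of_isQuot hprod hrq
  refine ⟨T₀, Φ, ?_, fun x => ?_⟩
  · refine (Groth.Agent.S2925.result _ _ hprod Y (prodMap q q' g g' ≫ pullback.fst g g' ≫ g)
      fun σ => by rw [← Category.assoc, hprod.inv]).unique ?_ rfl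
    rw [reassoc_of% hΦ, reassoc_of% hr, hT.over, pieceι_base, pullback.lift_fst_assoc,
      Category.assoc]
    exact congrArg (pullback.fst (q ≫ g) (q' ≫ g') ≫ ·) hA.over.symm
  · rw [← exists_perm_mem_patternOpen f f' e x]
    refine (Set.ext_iff.1 hT₀ (Q.base x)).trans ⟨?_, ?_⟩
    · rintro ⟨y, hy, hyx⟩
      obtain ⟨σ, hσ⟩ := Groth.Pi1Quot.exists_smul_eq hT.isQuot hyx.symm
      rw [SymProd.permActU_hom] at hσ
      exact ⟨σ.down, hσ ▸ (range_pieceι f f' sq e).le hy⟩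
    · rintro ⟨σ, hσ⟩
      exact ⟨_, (range_pieceι f f' sq e).ge hσ,
        Groth.Pi1Quot.apply_smul hT.isQuot (ULift.up σ) x⟩

/-- The class of a symmetric product of a disjoint union. -/
theorem cl_symProd_coprod {k : Type u} [Field k] [CharZero k] (pY : Y ⟶ Spec (CommRingCat.of k))
    (Sy : ℕ → Scheme.{u}) (q : ∀ n, SymProd.fibPow f n ⟶ Sy n) (g : ∀ n, Sy n ⟶ Y)
    (hS : ∀ n, SymProd.IsSymProd f n (q n) (g n))
    [∀ n, LocallyOfFiniteType (g n)] [∀ n, QuasiCompact (g n)]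
    (Sy' : ℕ → Scheme.{u}) (q' : ∀ n, SymProd.fibPow f' n ⟶ Sy' n) (g' : ∀ n, Sy' n ⟶ Y)
    (hS' : ∀ n, SymProd.IsSymProd f' n (q' n) (g' n))
    [∀ n, LocallyOfFiniteType (g' n)] [∀ n, QuasiCompact (g' n)]
    {T : Scheme.{u}} (Q : SymProd.fibPow (coprod.desc f f') n ⟶ T) (h : T ⟶ Y)
    (hT : SymProd.IsSymProd (coprod.desc f f') n Q h) [LocallyOfFiniteType h] [QuasiCompact h] :
    K0Var.cl h = ∑ p ∈ Finset.antidiagonal n, K0Var.cl (g p.1) * K0Var.cl (g' p.2) := by
  have key := fun p : {p // p ∈ Finset.antidiagonal n} =>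
    exists_piece pY (hS p.1.1) (hS' p.1.2) hT (Finset.mem_antidiagonal.1 p.2)
  choose O Φ hΦ hO using key
  have hsurj : Function.Surjective Q.base := (Groth.Pi1Quot.surjective hT.isQuot).surj
  have hcov : ∀ z, ∃ p, z ∈ O p := fun z => by
    obtain ⟨x, rfl⟩ := hsurj z
    have hle : Nat.card {t // IsLeftAt f f' x t} ≤ n := by
      classical
      rw [Nat.card_eq_fintype_card]
      exact (Fintype.card_subtype_le _).trans (Fintype.card_fin n).le
    exact ⟨⟨(_, n - _), Finset.mem_antidiagonal.2 (Nat.add_sub_cancel' hle)⟩, (hO _ x).2 rfl⟩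
  have huniq : ∀ z p p', z ∈ O p → z ∈ O p' → p = p' := fun z p p' hp hp' => by
    obtain ⟨x, rfl⟩ := hsurj z
    have e₁ := ((hO p x).1 hp).symm.trans ((hO p' x).1 hp')
    refine Subtype.ext (Prod.ext e₁ ?_)
    have a₁ := Finset.mem_antidiagonal.1 p.2
    have a₂ := Finset.mem_antidiagonal.1 p'.2
    omega
  have hclosed : ∀ p, IsClosed (O p : Set T) := fun p => by
    rw [← isOpen_compl_iff, show (O p : Set T)ᶜ = ⋃ p' ∈ {p' | p' ≠ p}, (O p' : Set T) from ?_]
    · exact isOpen_biUnion fun p' _ => (O p').isOpen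
    · ext z
      simp only [Set.mem_compl_iff, SetLike.mem_coe, Set.mem_iUnion, Set.mem_ofPred_eq, exists_prop]
      refine ⟨fun hz => ?_, fun ⟨p', hne, hz'⟩ hz => hne (huniq z p' p hz' hz)⟩
      obtain ⟨p', hp'⟩ := hcov z
      exact ⟨p', fun e => hz (e ▸ hp'), hp'⟩
  have : ∀ p, QuasiCompact (O p).ι := fun p => quasiCompact_ι _ (hclosed p)
  classical
  rw [cl_eq_sum Finset.univ h O
    (fun p _ p' _ hne => Set.disjoint_left.2 fun z hz hz' => hne (huniq z p p' hz hz'))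
    (fun p _ => hclosed p) (fun z => by
      obtain ⟨p, hp⟩ := hcov z
      exact ⟨p, Finset.mem_univ _, hp⟩),
    ← Finset.sum_coe_sort (Finset.antidiagonal n)]
  exact Finset.sum_congr rfl fun p _ =>
    (K0Var.cl_congr _ _ (Φ p) (hΦ p)).symm.trans (K0Var.cl_mul (g p.1.1) (g' p.1.2))

end Groth.Misc10.SymZeta
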